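import Groth.Agent.L21.Mult.Basic
import Groth.Agent.L21.TFDual.Canonical
import Groth.Agent.L21.TFDual.Frac
import Mathlib.RingTheory.DedekindDomain.PID
import Mathlib.LinearAlgebra.Matrix.NonsingularInverse
import Mathlib.LinearAlgebra.FreeModule.PID
import Mathlib.Algebra.Module.LocalizedModule.Basic

/-!
Lattices between `O ^ n` and the normalisation to the `n`.
-/

set_option autoImplicit false
universe u

open IsLocalRing TensorProduct

namespace Groth.L21.Lattice

/-- Inside a free module over an extension with finitely many maximal ideals, a generating submodule over a local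
ring with infinite residue field contains a basis. -/
theorem exists_matrix_mem {R S : Type u} [CommRing R] [IsLocalRing R] [Infinite (ResidueField R)] [CommRing S]
    [Algebra R S] (hfin : {Q : Ideal S | Q.IsMaximal}.Finite) {n : ℕ} (M : Submodule R (Fin n → S))
    (hM : Submodule.span S (M : Set (Fin n → S)) = ⊤) :
    ∃ v : Fin n → Fin n → S, (∀ i, v i ∈ M) ∧ IsUnit (Matrix.of fun i j => v j i : Matrix (Fin n) (Fin n) S) := by
  classical
  have key : ∀ j, j ≤ n → ∃ v : Fin j → Fin n → S, (∀ i, v i ∈ M) ∧ ∀ Q ∈ hfin.toFinset,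
      LinearIndependent (S ⧸ Q) fun i => Ideal.Quotient.mk Q ∘ v i := by
    intro j hj
    induction j with
    | zero => exact ⟨Fin.elim0, fun i => i.elim0, fun Q _ => linearIndependent_empty_type⟩
    | succ j ih =>
      obtain ⟨v, hv, hli⟩ := ih (by omega)
      let P : Ideal S → Submodule R M := fun Q =>
        (((Submodule.span S (Set.range v) ⊔ Submodule.pi Set.univ fun _ => Q).restrictScalars R).comap M.subtype)
      obtain ⟨⟨w, hw⟩, hwP⟩ := Groth.L21.Mult.exists_forall_notMem hfin.toFinset P fun Q hQ hP => by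
        haveI : Q.IsMaximal := hfin.mem_toFinset.mp hQ
        letI := Ideal.Quotient.field Q
        have hle : (M : Set (Fin n → S)) ⊆
            (Submodule.span S (Set.range v) ⊔ Submodule.pi Set.univ fun _ => Q : Submodule S _) := fun m hm => by
          have : (⟨m, hm⟩ : M) ∈ P Q := hP ▸ Submodule.mem_top
          exact this
        have htop := eq_top_iff.mp (le_antisymm le_top (hM ▸ Submodule.span_le.mpr hle))
        have hspan : ⊤ ≤ Submodule.span (S ⧸ Q) (Set.range fun i => Ideal.Quotient.mk Q ∘ v i) := by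
          intro x _
          choose y hy using fun i => Ideal.Quotient.mk_surjective (x i)
          obtain ⟨a, ha, b, hb, hab⟩ := Submodule.mem_sup.mp (htop (Submodule.mem_top (x := y)))
          obtain ⟨c, rfl⟩ := (Submodule.mem_span_range_iff_exists_fun S).mp ha
          refine (Submodule.mem_span_range_iff_exists_fun _).mpr ⟨fun i => Ideal.Quotient.mk Q (c i), funext fun l => ?_⟩
          have hbl : b l ∈ Q := Submodule.mem_pi.mp hb l trivial
          rw [← hy l, ← congrFun hab l]
          simp [Finset.sum_apply, Ideal.Quotient.eq_zero_iff_mem.mpr hbl]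
        have h1 : Module.finrank (S ⧸ Q) (Fin n → S ⧸ Q) ≤ j := by
          rw [← finrank_top, ← le_antisymm le_top hspan]
          exact (finrank_range_le_card _).trans_eq (Fintype.card_fin j)
        rw [Module.finrank_fin_fun] at h1
        omega
      refine ⟨Fin.snoc v w, fun i => ?_, fun Q hQ => ?_⟩
      · refine Fin.lastCases ?_ (fun i => ?_) i <;> simp [hw, hv]
      · haveI : Q.IsMaximal := hfin.mem_toFinset.mp hQ
        letI := Ideal.Quotient.field Q
        have e : (fun i => Ideal.Quotient.mk Q ∘ (Fin.snoc v w : Fin (j + 1) → Fin n → S) i) =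
            Fin.snoc (fun i => Ideal.Quotient.mk Q ∘ v i) (Ideal.Quotient.mk Q ∘ w) := by
          funext i
          refine Fin.lastCases ?_ (fun i => ?_) i <;> simp
        rw [e, linearIndependent_finSnoc]
        refine ⟨hli Q hQ, fun hmem => hwP Q hQ ?_⟩
        obtain ⟨c, hc⟩ := (Submodule.mem_span_range_iff_exists_fun _).mp hmem
        choose c' hc' using fun i => Ideal.Quotient.mk_surjective (c i)
        refine Submodule.mem_sup.mpr ⟨∑ i, c' i • v i,
          (Submodule.mem_span_range_iff_exists_fun S).mpr ⟨c', rfl⟩, w - ∑ i, c' i • v i,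
          Submodule.mem_pi.mpr fun l _ => ?_, add_sub_cancel _ _⟩
        rw [← Ideal.Quotient.eq_zero_iff_mem, Pi.sub_apply, map_sub, sub_eq_zero, ← Function.comp_apply
          (f := Ideal.Quotient.mk Q) (g := w) (x := l), ← hc]
        simp [Finset.sum_apply, hc']
  obtain ⟨v, hv, hli⟩ := key n le_rfl
  refine ⟨v, hv, (Matrix.isUnit_iff_isUnit_det _).mpr ?_⟩
  by_contra hu
  obtain ⟨Q, hQ, hQd⟩ := exists_max_ideal_of_mem_nonunits hu
  letI := Ideal.Quotient.field Q
  have hli' := hli Q (hfin.mem_toFinset.mpr hQ)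
  have h0 : ((Matrix.of fun i j => v j i : Matrix (Fin n) (Fin n) S).map (Ideal.Quotient.mk Q)).det = 0 := by
    rw [← RingHom.mapMatrix_apply, ← RingHom.map_det, Ideal.Quotient.eq_zero_iff_mem]
    exact hQd
  have h1 : LinearIndependent (S ⧸ Q) ((Matrix.of fun i j => v j i : Matrix (Fin n) (Fin n) S).map (Ideal.Quotient.mk Q)).col := hli'
  rw [Matrix.linearIndependent_cols_iff_isUnit, Matrix.isUnit_iff_isUnit_det] at h1
  exact h1.ne_zero h0

section Domain

variable {O : Type u} [CommRing O] [IsDomain O] [IsNoetherianRing O] [IsLocalRing O]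
  {K : Type u} [Field K] [Algebra O K] [IsFractionRing O K]

omit [IsNoetherianRing O] [IsLocalRing O] in
theorem mem_pi_integralClosure {n : ℕ} (x : Fin n → ↥(integralClosure O K)) :
    (fun i => (x i : K)) ∈ Submodule.pi Set.univ fun _ : Fin n => Subalgebra.toSubmodule (integralClosure O K) :=
  Submodule.mem_pi.mpr fun i _ => (x i).2

/-- The normalisation is a semilocal principal ideal domain. -/
theorem semilocal_pid (hdim : ringKrullDim O = 1) (hfin : Module.Finite O ↥(integralClosure O K)) :
    IsPrincipalIdealRing ↥(integralClosure O K) ∧ {Q : Ideal ↥(integralClosure O K) | Q.IsMaximal}.Finite := by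
  haveI := Groth.L21.TFDual.krullDimLE_one hdim
  set S := integralClosure O K
  haveI : IsIntegrallyClosed S := integralClosure.isIntegrallyClosedOfFiniteExtension K
  haveI : IsNoetherianRing S := IsNoetherianRing.of_finite O S
  haveI : Ring.DimensionLEOne S := by
    refine ⟨fun {p} hp0 hp => ?_⟩
    haveI := hp
    have h1 : (p.comap (algebraMap O S)).IsPrime := Ideal.IsPrime.comap _
    have h2 : p.comap (algebraMap O S) ≠ ⊥ := Ideal.comap_ne_bot_of_integral_mem (R := O)
      (x := (p.ne_bot_iff.mp hp0).choose) (p.ne_bot_iff.mp hp0).choose_spec.2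
      (p.ne_bot_iff.mp hp0).choose_spec.1 (Algebra.IsIntegral.isIntegral _)
    exact Ideal.isMaximal_of_isIntegral_of_isMaximal_comap p (h1.isMaximal_of_ne_bot h2)
  haveI : IsDedekindDomain S := { }
  have hφ : Function.Injective (algebraMap O S) := fun a b h =>
    IsFractionRing.injective O K (congrArg Subtype.val h)
  have hJ : (maximalIdeal O).map (algebraMap O S) ≠ ⊥ := fun h =>
    Groth.L21.TFDual.maximalIdeal_ne_bot hdim ((Ideal.map_eq_bot_iff_of_injective hφ).mp h)
  have hover : ∀ Q : Ideal S, Q.IsMaximal → (maximalIdeal O).map (algebraMap O S) ≤ Q := fun Q hQ => by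
    haveI := hQ
    rw [Ideal.map_le_iff_le_comap]
    exact (IsLocalRing.eq_maximalIdeal (Ideal.isMaximal_comap_of_isIntegral_of_isMaximal Q)).ge
  have hfinQ : {Q : Ideal S | Q.IsMaximal}.Finite := by
    refine ((Ideal.finite_factors hJ).image IsDedekindDomain.HeightOneSpectrum.asIdeal).subset fun Q hQ => ?_
    have hQ0 : Q ≠ ⊥ := fun h => hJ (le_bot_iff.mp (h ▸ hover Q hQ))
    exact ⟨⟨Q, hQ.isPrime, hQ0⟩, Ideal.dvd_iff_le.mpr (hover Q hQ), rfl⟩
  refine ⟨IsPrincipalIdealRing.of_finite_primes ((hfinQ.insert ⊥).subset fun P hP => ?_), hfinQ⟩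
  rcases eq_or_ne P ⊥ with h | h
  · exact Set.mem_insert_iff.mpr (Or.inl h)
  · exact Set.mem_insert_iff.mpr (Or.inr (Ideal.IsPrime.isMaximal hP h))

omit [IsNoetherianRing O] [IsLocalRing O] in
/-- A linear map defined on a lattice containing `O ^ n` is given by a matrix. -/
theorem eq_mulVec {n : ℕ} {M : Submodule O (Fin n → K)}
    (hM1 : Submodule.pi Set.univ (fun _ : Fin n => (1 : Submodule O K)) ≤ M)
    (f : ↥M →ₗ[O] (Fin n → K)) (e : Fin n → ↥M) (he : ∀ j, (e j : Fin n → K) = Pi.single j 1) (x : ↥M) :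
    f x = (Matrix.of fun i j => f (e j) i).mulVec (x : Fin n → K) := by
  obtain ⟨c, hc⟩ := IsLocalization.exist_integer_multiples_of_finite (nonZeroDivisors O) (fun i => (x : Fin n → K) i)
  choose a ha using hc
  have hcx : (c : O) • x = ∑ j, a j • e j := Subtype.ext (funext fun i => by
    simp only [SetLike.val_smul, Pi.smul_apply, AddSubmonoidClass.coe_finset_sum, Finset.sum_apply, he,
      Pi.single_apply, smul_ite, smul_zero, Finset.sum_ite_eq, Finset.mem_univ, if_true]
    rw [← ha i, Algebra.algebraMap_eq_smul_one])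
  have hc0 : algebraMap O K c ≠ 0 := IsFractionRing.to_map_ne_zero_of_mem_nonZeroDivisors c.2
  funext i
  refine mul_left_cancel₀ hc0 ?_
  rw [← Algebra.smul_def, ← Algebra.smul_def, ← Pi.smul_apply, ← map_smul, hcx, map_sum, Finset.sum_apply,
    Matrix.mulVec, dotProduct, Finset.smul_sum]
  refine Finset.sum_congr rfl fun j _ => ?_
  rw [map_smul, Pi.smul_apply, Matrix.of_apply, Algebra.smul_def, Algebra.smul_def, ha j, Algebra.smul_def]
  ring

theorem exists_normal_form_aux [Infinite (ResidueField O)] {S : Type u} [CommRing S] [IsDomain S]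
    [IsPrincipalIdealRing S] [Algebra O S] [Algebra S K] [IsScalarTower O S K] [IsFractionRing S K]
    (hfinQ : {Q : Ideal S | Q.IsMaximal}.Finite) {M : Type u} [AddCommGroup M] [Module O M] [Module.Finite O M]
    {n : ℕ} (ι : M →ₗ[O] (Fin n → K)) (hι : Function.Injective ι)
    (hιK : Submodule.span K (Set.range ι) = ⊤) :
    ∃ M' : Submodule O (Fin n → K), Submodule.pi Set.univ (fun _ : Fin n => (1 : Submodule O K)) ≤ M' ∧
      M' ≤ Submodule.pi Set.univ (fun _ : Fin n => LinearMap.range (IsScalarTower.toAlgHom O S K).toLinearMap) ∧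
      Nonempty (M ≃ₗ[O] ↥M') := by
  classical
  obtain ⟨W, hW⟩ : ∃ W : Submodule S (Fin n → K), W = Submodule.span S (Set.range ι) :=
    ⟨_, rfl⟩
  have hmem : ∀ x, ι x ∈ W := fun x => hW ▸ Submodule.subset_span ⟨x, rfl⟩
  haveI : Module.Finite S ↥W := by
    obtain ⟨T, hT⟩ := Module.Finite.fg_top (R := O) (M := M)
    have hWT : W = Submodule.span S (ι '' (T : Set M)) := by
      rw [hW]
      refine le_antisymm (Submodule.span_le.mpr ?_) (Submodule.span_mono (Set.image_subset_range _ _))
      rintro _ ⟨m, rfl⟩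
      have hm : m ∈ Submodule.span O (T : Set M) := hT ▸ Submodule.mem_top
      have := Submodule.apply_mem_span_image_of_mem_span ι hm
      exact Submodule.span_le_restrictScalars O S _ this
    exact Module.Finite.iff_fg.mpr (hWT ▸ Submodule.fg_span ((T.finite_toSet).image _))
  haveI : Module.IsTorsionFree S (Fin n → K) := Module.IsTorsionFree.trans_faithfulSMul S K _
  haveI : Module.Free S ↥W := Module.free_of_finite_type_torsion_free' (R := S) (M := ↥W)
  obtain ⟨m, b⟩ : Σ m, Module.Basis (Fin m) S ↥W := ⟨_, Module.finBasis S ↥W⟩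
  have hli : LinearIndependent K fun i => (b i : Fin n → K) :=
    (LinearIndependent.iff_fractionRing S K).mp (b.linearIndependent.map' W.subtype (Submodule.ker_subtype _))
  have hsp : ⊤ ≤ Submodule.span K (Set.range fun i => (b i : Fin n → K)) := by
    rw [← hιK, Submodule.span_le]
    rintro _ ⟨x, rfl⟩
    have h1 : (⟨ι x, hmem x⟩ : W) ∈ Submodule.span S (Set.range b) := by
      rw [b.span_eq]; trivial
    obtain ⟨a, ha⟩ := (Submodule.mem_span_range_iff_exists_fun S).mp h1
    have h2 : ι x = ∑ i, a i • (b i : Fin n → K) := by simpa using (congrArg Subtype.val ha).symm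
    rw [SetLike.mem_coe, h2]
    refine sum_mem fun i _ => ?_
    rw [← algebraMap_smul K (a i)]
    exact Submodule.smul_mem _ _ (Submodule.subset_span ⟨i, rfl⟩)
  obtain rfl : m = n := by
    rw [← Module.finrank_fin_fun (R := K) (n := n), Module.finrank_eq_card_basis (Module.Basis.mk hli hsp),
      Fintype.card_fin]
  let φ : M →ₗ[O] (Fin m → S) := (b.equivFun.toLinearMap.restrictScalars O) ∘ₗ
    LinearMap.codRestrict (W.restrictScalars O) ι hmem
  have hφ : Function.Injective φ := fun x y hxy => hι (congrArg Subtype.val (b.equivFun.injective hxy))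
  have hspan : Submodule.span S (LinearMap.range φ : Set (Fin m → S)) = ⊤ := by
    have h1 : Submodule.span S (Subtype.val ⁻¹' Set.range ι : Set W) = ⊤ :=
      by subst hW; exact Submodule.span_span_coe_preimage
    rw [eq_top_iff, ← LinearEquiv.range b.equivFun, LinearMap.range_eq_map, ← h1, Submodule.map_span]
    refine Submodule.span_mono ?_
    rintro _ ⟨w, ⟨x, hx⟩, rfl⟩
    exact ⟨x, congrArg b.equivFun (Subtype.ext hx)⟩
  obtain ⟨v, hv, hA⟩ := exists_matrix_mem hfinQ (LinearMap.range φ) hspan
  obtain ⟨A, hA⟩ := hA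
  let C : (Fin m → S) →ₗ[O] (Fin m → K) :=
    LinearMap.pi fun i => (IsScalarTower.toAlgHom O S K).toLinearMap ∘ₗ LinearMap.proj i
  let T : M →ₗ[O] (Fin m → K) := C ∘ₗ
    ((Matrix.mulVecLin ((↑A⁻¹ : Matrix (Fin m) (Fin m) S))).restrictScalars O) ∘ₗ φ
  have hT : Function.Injective T := fun x y hxy => by
    refine hφ ?_
    have h1 : (↑A⁻¹ : Matrix (Fin m) (Fin m) S).mulVec (φ x) = (↑A⁻¹ : Matrix (Fin m) (Fin m) S).mulVec (φ y) :=
      funext fun i => IsFractionRing.injective S K (congrFun hxy i)
    simpa [Matrix.mulVec_mulVec] using congrArg ((↑A : Matrix (Fin m) (Fin m) S).mulVec) h1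
  refine ⟨LinearMap.range T, fun x hx => ?_, ?_, ⟨LinearEquiv.ofInjective T hT⟩⟩
  · choose a ha using fun i => Submodule.mem_one.mp (Submodule.mem_pi.mp hx i trivial)
    choose p hp using hv
    refine ⟨∑ j, a j • p j, ?_⟩
    have h1 : φ (∑ j, a j • p j) = (↑A : Matrix (Fin m) (Fin m) S).mulVec fun j => algebraMap O S (a j) := by
      funext i
      simp [hA, hp, Matrix.mulVec, dotProduct, Finset.sum_apply, Algebra.smul_def, mul_comm]
    funext i
    show algebraMap S K (((↑A⁻¹ : Matrix (Fin m) (Fin m) S).mulVec (φ (∑ j, a j • p j))) i) = x i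
    rw [h1, Matrix.mulVec_mulVec, Units.inv_mul, Matrix.one_mulVec, ← ha i]
    exact (IsScalarTower.algebraMap_apply O S K _).symm
  · rintro _ ⟨x, rfl⟩
    exact Submodule.mem_pi.mpr fun i _ => ⟨_, rfl⟩

/-- Every torsion-free module is a lattice between `O ^ n` and the normalisation to the `n`. -/
theorem exists_normal_form (hdim : ringKrullDim O = 1) [Infinite (ResidueField O)]
    (hfin : Module.Finite O ↥(integralClosure O K)) (M : Type u) [AddCommGroup M] [Module O M] [Module.Finite O M]
    [NoZeroSMulDivisors O M] (n : ℕ) (hn : Module.finrank K (TensorProduct O K M) = n) :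
    ∃ M' : Submodule O (Fin n → K), Submodule.pi Set.univ (fun _ : Fin n => (1 : Submodule O K)) ≤ M' ∧
      M' ≤ Submodule.pi Set.univ (fun _ : Fin n => (Subalgebra.toSubmodule (integralClosure O K))) ∧
      Nonempty (M ≃ₗ[O] ↥M') := by
  obtain ⟨hpid, hfinQ⟩ := semilocal_pid hdim hfin
  haveI := hpid
  haveI : IsFractionRing ↥(integralClosure O K) K := integralClosure.isFractionRing_of_finite_extension K K
  haveI : IsLocalizedModule (nonZeroDivisors O) (TensorProduct.mk O K M 1) :=
    (isLocalizedModule_iff_isBaseChange (nonZeroDivisors O) K _).mpr (TensorProduct.isBaseChange O M K)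
  have hι : Function.Injective (TensorProduct.mk O K M 1) := (injective_iff_map_eq_zero _).mpr fun m hm => by
    obtain ⟨c, hc⟩ := (IsLocalizedModule.eq_zero_iff (nonZeroDivisors O) (TensorProduct.mk O K M 1)).mp hm
    exact (smul_eq_zero.mp hc).resolve_left (nonZeroDivisors.ne_zero c.2)
  let e : TensorProduct O K M ≃ₗ[K] (Fin n → K) := (Module.finBasisOfFinrankEq K _ hn).equivFun
  let ι : M →ₗ[O] (Fin n → K) := (e.toLinearMap.restrictScalars O) ∘ₗ TensorProduct.mk O K M 1
  have hspan : Submodule.span K (Set.range ι) = ⊤ := by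
    refine eq_top_iff.mpr fun y _ => ?_
    rw [← e.apply_symm_apply y]
    induction e.symm y using TensorProduct.induction_on with
    | zero => rw [map_zero]; exact zero_mem _
    | add a b ha hb => rw [map_add]; exact add_mem ha hb
    | tmul c m =>
      rw [show c ⊗ₜ[O] m = c • ((1 : K) ⊗ₜ[O] m) by rw [smul_tmul', smul_eq_mul, mul_one], map_smul]
      exact Submodule.smul_mem _ _ (Submodule.subset_span ⟨m, rfl⟩)
  obtain ⟨M', h1, h2, h3⟩ := exists_normal_form_aux (O := O) (K := K) hfinQ ι (e.injective.comp hι) hspan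
  refine ⟨M', h1, fun x hx => Submodule.mem_pi.mpr fun i hi => ?_, h3⟩
  obtain ⟨y, hy⟩ := Submodule.mem_pi.mp (h2 hx) i hi
  exact hy ▸ y.2

end Domain

end Groth.L21.Lattice
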