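import Groth.Agent.L21.Lattice.Basic
import Groth.Agent.L21.TFDual.ValueLattice
import Mathlib.RingTheory.SimpleModule.Basic
import Mathlib.LinearAlgebra.Quotient.Pi
import Mathlib.FieldTheory.IsAlgClosed.Basic

/-!
Lattices over a curve ring can be moved so that their colength over the conductor is any value between the
extreme ones.
-/

set_option autoImplicit false
set_option linter.style.haveILetI false
universe u

open IsLocalRing Groth.L21.ValueLattice

namespace Groth.L21.Lattice

variable {O : Type u} [CommRing O] [IsDomain O] [IsNoetherianRing O] [IsLocalRing O]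
  [IsAlgClosed (ResidueField O)]
  {S : Type u} [CommRing S] [Algebra O S] [Module.Finite O S]

omit [IsDomain O] [IsNoetherianRing O] in
theorem exists_const (m : Ideal S) [m.IsMaximal] (s : S) : ∃ c : O, algebraMap O S c - s ∈ m := by
  have hc : maximalIdeal O ≤ m.comap (algebraMap O S) :=
    (IsLocalRing.eq_maximalIdeal (Ideal.isMaximal_comap_of_isIntegral_of_isMaximal m)).ge
  let φ : ResidueField O →+* S ⧸ m := Ideal.Quotient.lift (maximalIdeal O) (algebraMap O (S ⧸ m)) fun a ha => by
    rw [IsScalarTower.algebraMap_apply O S (S ⧸ m), Ideal.Quotient.algebraMap_eq]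
    exact Ideal.Quotient.eq_zero_iff_mem.mpr (hc ha)
  letI := φ.toAlgebra
  haveI : IsScalarTower O (ResidueField O) (S ⧸ m) := IsScalarTower.of_algebraMap_eq fun a => rfl
  haveI : Module.Finite O (S ⧸ m) := Module.Finite.trans S (S ⧸ m)
  haveI : Module.Finite (ResidueField O) (S ⧸ m) := Module.Finite.of_restrictScalars_finite O _ _
  haveI : IsDomain (S ⧸ m) := Ideal.Quotient.isDomain m
  obtain ⟨a, ha⟩ := (IsAlgClosed.algebraMap_bijective_of_isIntegral (k := ResidueField O) (K := S ⧸ m)).2
    (Ideal.Quotient.mk m s)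
  obtain ⟨c, rfl⟩ := IsLocalRing.residue_surjective a
  exact ⟨c, Ideal.Quotient.eq.1 ha⟩

omit [IsDomain O] [IsNoetherianRing O] in
theorem length_simple {W : Type u} [AddCommGroup W] [Module S W] [Module O W] [IsScalarTower O S W]
    [IsSimpleModule S W] : Module.length O W = 1 := by
  haveI := IsSimpleModule.nontrivial S W
  obtain ⟨w, hw⟩ := exists_ne (0 : W)
  haveI hm : Ideal.IsMaximal (LinearMap.ker (LinearMap.toSpanSingleton S W w)) :=
    IsSimpleModule.ker_toSpanSingleton_isMaximal S hw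
  have hmem : ∀ {r : S}, r ∈ (LinearMap.ker (LinearMap.toSpanSingleton S W w) : Ideal S) → r • w = 0 :=
    fun hr => hr
  let g := LinearMap.toSpanSingleton O W w
  have hg : Function.Surjective g := fun x => by
    obtain ⟨s, rfl⟩ := IsSimpleModule.toSpanSingleton_surjective S hw x
    obtain ⟨c, hc⟩ := exists_const (O := O) (LinearMap.ker (LinearMap.toSpanSingleton S W w)) s
    refine ⟨c, ?_⟩
    show c • w = s • w
    rw [← algebraMap_smul S c, ← sub_eq_zero, ← sub_smul]
    exact hmem hc
  have hker : (LinearMap.ker g : Ideal O) = maximalIdeal O := by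
    refine le_antisymm (IsLocalRing.le_maximalIdeal fun h => hw ?_) fun a ha => ?_
    · have h1 : (1 : O) ∈ LinearMap.ker g := by rw [h]; trivial
      simpa [g] using h1
    · show a • w = 0
      rw [← algebraMap_smul S a]
      have h2 : a ∈ Ideal.comap (algebraMap O S) (LinearMap.ker (LinearMap.toSpanSingleton S W w)) := by
        rw [IsLocalRing.eq_maximalIdeal (Ideal.isMaximal_comap_of_isIntegral_of_isMaximal
          (R := O) (LinearMap.ker (LinearMap.toSpanSingleton S W w)))]
        exact ha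
      exact hmem h2
  haveI : IsSimpleModule O (O ⧸ LinearMap.ker g) :=
    isSimpleModule_iff_isCoatom.2 (hker ▸ (maximalIdeal.isMaximal O).out)
  rw [← (g.quotKerEquivOfSurjective hg).length_eq, Module.length_eq_one]

variable [IsNoetherianRing S] {V : Type u} [AddCommGroup V] [Module S V] [Module O V] [IsScalarTower O S V]

omit [IsDomain O] [IsNoetherianRing O] in
theorem exists_between (L P₀ : Submodule S V) (M : Submodule O V) (hL : L ≤ P₀)
    (h0 : P₀.restrictScalars O ≤ M) (hfg : P₀.FG) :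
    ∀ j : ℕ, lenQ M (P₀.restrictScalars O) + j ≤ lenQ M (L.restrictScalars O) →
      lenQ M (L.restrictScalars O) ≠ ⊤ →
      ∃ P : Submodule S V, L ≤ P ∧ P ≤ P₀ ∧ lenQ M (P.restrictScalars O) = lenQ M (P₀.restrictScalars O) + j := by
  intro j
  induction j with
  | zero => exact fun _ _ => ⟨P₀, hL, le_rfl, by simp⟩
  | succ j ih =>
    intro hj hfin
    obtain ⟨P, hLP, hP, he⟩ := ih (le_trans (by gcongr; exact_mod_cast j.le_succ) hj) hfin
    have hne : L.comap P.subtype ≠ ⊤ := by
      intro htop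
      have hPL : P = L := le_antisymm (fun x hx => by
        have h1 : (⟨x, hx⟩ : P) ∈ L.comap P.subtype := by rw [htop]; trivial
        exact h1) hLP
      rw [← hPL, he] at hj hfin
      obtain ⟨a, ha⟩ := ENat.ne_top_iff_exists.1 (fun h => hfin (by rw [h]; exact top_add _) :
        lenQ M (P₀.restrictScalars O) ≠ ⊤)
      rw [← ha] at hj
      norm_cast at hj
      omega
    haveI : Module.Finite S ↥P₀ := Module.Finite.iff_fg.2 hfg
    haveI : Module.Finite S ↥P := Module.Finite.of_injective (Submodule.inclusion hP) (Submodule.inclusion_injective _)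
    obtain ⟨U, hU, hLU⟩ := (eq_top_or_exists_le_coatom (L.comap P.subtype)).resolve_left hne
    haveI : IsSimpleModule S (↥P ⧸ U) := isSimpleModule_iff_isCoatom.2 hU
    refine ⟨U.map P.subtype, fun x hx => ⟨⟨x, hLP hx⟩, hLU hx, rfl⟩, (Submodule.map_subtype_le P U).trans hP, ?_⟩
    have h1 : lenQ (P.restrictScalars O) ((U.map P.subtype).restrictScalars O) = 1 := by
      have hc : ((U.map P.subtype).restrictScalars O).comap (P.restrictScalars O).subtype =
          (U.restrictScalars O : Submodule O ↥P) := by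
        ext x
        exact ⟨fun ⟨y, hy, hyx⟩ => (Subtype.ext hyx : y = x) ▸ hy, fun hx => ⟨x, hx, rfl⟩⟩
      exact ((Submodule.quotEquivOfEq _ _ hc).length_eq).trans
        ((Submodule.Quotient.restrictScalarsEquiv O U).length_eq.trans (length_simple (S := S)))
    rw [lenQ_add (show (U.map P.subtype).restrictScalars O ≤ P.restrictScalars O from fun x hx =>
      Submodule.map_subtype_le P U hx) (fun x hx => h0 (hP hx)), h1, he, Nat.cast_add, Nat.cast_one,
      add_comm 1, add_assoc]

end Groth.L21.Lattice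

namespace Groth.L21.Lattice

variable {O : Type u} [CommRing O] [IsDomain O] [IsNoetherianRing O] [IsLocalRing O] [Ring.KrullDimLE 1 O]
  [IsAlgClosed (ResidueField O)]
  {K : Type u} [Field K] [Algebra O K] [IsFractionRing O K]
  {S : Type u} [CommRing S] [IsDomain S] [IsPrincipalIdealRing S] [Algebra O S] [Module.Finite O S]
  [Algebra S K] [IsScalarTower O S K] [IsFractionRing S K]

/-- Moving a lattice so that its colength over the conductor is that of the free lattice. -/
theorem exists_colength {n : ℕ} (Cs : Submodule O K) (t : K) (ht : t ≠ 0)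
    (hCs : ∀ x, x ∈ Cs ↔ ∃ s : S, x = t * algebraMap S K s) (hCs1 : Cs ≤ 1)
    (hc : ∃ c : O, c ≠ 0 ∧ algebraMap O K c ∈ Cs)
    (M' M'' : Submodule O (Fin n → K))
    (hO : Submodule.pi Set.univ (fun _ : Fin n => (1 : Submodule O K)) ≤ M')
    (hN : M' ≤ Submodule.pi Set.univ (fun _ : Fin n => LinearMap.range (IsScalarTower.toAlgHom O S K).toLinearMap))
    (hC'' : Submodule.pi Set.univ (fun _ : Fin n => Cs) ≤ M'')
    (hO'' : M'' ≤ Submodule.pi Set.univ (fun _ : Fin n => (1 : Submodule O K))) (e : ↥M' ≃ₗ[O] ↥M'') :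
    ∃ M₁ : Submodule O (Fin n → K), Submodule.pi Set.univ (fun _ : Fin n => Cs) ≤ M₁ ∧
      M₁ ≤ Submodule.pi Set.univ (fun _ : Fin n => LinearMap.range (IsScalarTower.toAlgHom O S K).toLinearMap) ∧
      Nonempty (↥M' ≃ₗ[O] ↥M₁) ∧
      lenQ M₁ (Submodule.pi Set.univ fun _ : Fin n => Cs) =
        n * Module.length O (O ⧸ Cs.comap (Algebra.linearMap O K)) := by
  classical
  haveI : IsNoetherianRing S := inferInstance
  obtain ⟨c, hc0, hcC⟩ := hc
  have hstable : ∀ (s : S) (x : K), x ∈ Cs → algebraMap S K s * x ∈ Cs := fun s x hx => by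
    obtain ⟨r, rfl⟩ := (hCs x).1 hx
    exact (hCs _).2 ⟨s * r, by rw [map_mul]; ring⟩
  let On : Submodule O (Fin n → K) := Submodule.pi Set.univ fun _ => (1 : Submodule O K)
  let Ln : Submodule O (Fin n → K) := Submodule.pi Set.univ fun _ => Cs
  let L : Submodule S (Fin n → K) :=
    { carrier := {x | ∀ i, x i ∈ Cs}
      add_mem' := fun ha hb i => Cs.add_mem (ha i) (hb i)
      zero_mem' := fun i => Cs.zero_mem
      smul_mem' := fun s x hx i => by
        show (s • x i : K) ∈ Cs
        rw [Algebra.smul_def]; exact hstable s _ (hx i) }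
  have hL : L.restrictScalars O = Ln := by
    ext x; exact ⟨fun h => Submodule.mem_pi.2 fun i _ => h i, fun h i => Submodule.mem_pi.1 h i trivial⟩
  have hLnOn : Ln ≤ On := fun x hx => Submodule.mem_pi.2 fun i _ => hCs1 (Submodule.mem_pi.1 hx i trivial)
  -- the isomorphism is given by a matrix
  let eo : Fin n → ↥M' := fun j => ⟨Pi.single j 1, hO (Submodule.mem_pi.2 fun i _ => by
    rw [Pi.single_apply]; split
    · exact Submodule.one_le.1 le_rfl
    · exact zero_mem _)⟩
  let f : ↥M' →ₗ[O] (Fin n → K) := M''.subtype ∘ₗ e.toLinearMap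
  let G : Matrix (Fin n) (Fin n) K := Matrix.of fun i j => f (eo j) i
  have hf : ∀ x : ↥M', f x = G.mulVec (x : Fin n → K) := eq_mulVec hO f eo fun j => rfl
  have hGO : ∀ i j, G i j ∈ (1 : Submodule O K) := fun i j =>
    Submodule.mem_pi.1 (hO'' (e (eo j)).2) i trivial
  let Φ : (Fin n → K) →ₗ[K] (Fin n → K) := G.mulVecLin
  have hΦinj : Function.Injective Φ := by
    rw [LinearMap.injective_iff_surjective]
    rw [← LinearMap.range_eq_top, eq_top_iff, ← (Pi.basisFun K (Fin n)).span_eq, Submodule.span_le]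
    rintro _ ⟨j, rfl⟩
    have hmem : (algebraMap O K c) • (Pi.single j 1 : Fin n → K) ∈ Ln := Submodule.mem_pi.2 fun i _ => by
      rw [Pi.smul_apply, Pi.single_apply]; split
      · rw [smul_eq_mul, mul_one]; exact hcC
      · rw [smul_zero]; exact zero_mem _
    have h0 : algebraMap O K c ≠ 0 := fun h => hc0 (IsFractionRing.injective O K (h.trans (map_zero _).symm))
    refine ⟨(algebraMap O K c)⁻¹ • ((e.symm ⟨_, hC'' hmem⟩ : ↥M') : Fin n → K), ?_⟩
    rw [map_smul, Pi.basisFun_apply]
    show (algebraMap O K c)⁻¹ • G.mulVec _ = _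
    rw [← hf]
    show (algebraMap O K c)⁻¹ • ((e (e.symm ⟨_, hC'' hmem⟩) : ↥M'') : Fin n → K) = _
    rw [LinearEquiv.apply_symm_apply]
    exact inv_smul_smul₀ h0 _
  let P₀ : Submodule S (Fin n → K) := L.comap (Φ.restrictScalars S)
  have hP₀M : P₀.restrictScalars O ≤ M' := fun x hx => by
    have h1 : Φ x ∈ M'' := hC'' (le_of_eq hL (hx : Φ x ∈ L.restrictScalars O))
    have h2 : Φ ((e.symm ⟨Φ x, h1⟩ : ↥M') : Fin n → K) = Φ x := by
      show G.mulVec _ = _
      rw [← hf]
      show ((e (e.symm ⟨Φ x, h1⟩) : ↥M'') : Fin n → K) = _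
      rw [LinearEquiv.apply_symm_apply]
    exact hΦinj h2 ▸ (e.symm ⟨Φ x, h1⟩).2
  have hLP₀ : L ≤ P₀ := fun x hx i => by
    show (∑ j, G i j * x j) ∈ Cs
    refine sum_mem fun j _ => ?_
    obtain ⟨a, ha⟩ := Submodule.mem_one.1 (hGO i j)
    rw [← ha, ← Algebra.smul_def]
    exact Cs.smul_mem a (hx j)
  -- lengths
  let θ : (Fin n → O) →ₗ[O] (↥On ⧸ Ln.comap On.subtype) := (Ln.comap On.subtype).mkQ ∘ₗ
    LinearMap.codRestrict On ((Algebra.linearMap O K).compLeft (Fin n)) fun v =>
      Submodule.mem_pi.2 fun i _ => Submodule.mem_one.2 ⟨v i, rfl⟩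
  have hθ : Function.Surjective θ := fun z => by
    obtain ⟨x, rfl⟩ := Submodule.mkQ_surjective _ z
    choose v hv using fun i => Submodule.mem_one.1 (Submodule.mem_pi.1 x.2 i trivial)
    exact ⟨v, congrArg _ (Subtype.ext (funext hv))⟩
  have hθk : LinearMap.ker θ = Submodule.pi Set.univ fun _ => Cs.comap (Algebra.linearMap O K) := by
    ext v
    rw [LinearMap.mem_ker]
    show Submodule.Quotient.mk _ = 0 ↔ _
    rw [Submodule.Quotient.mk_eq_zero]
    exact ⟨fun h => Submodule.mem_pi.2 fun i _ => Submodule.mem_pi.1 h i trivial,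
      fun h => Submodule.mem_pi.2 fun i _ => Submodule.mem_pi.1 h i trivial⟩
  have hδ : lenQ On Ln = n * Module.length O (O ⧸ Cs.comap (Algebra.linearMap O K)) := by
    show Module.length O (↥On ⧸ Ln.comap On.subtype) = _
    rw [← ((Submodule.quotEquivOfEq _ _ hθk.symm) ≪≫ₗ θ.quotKerEquivOfSurjective hθ).length_eq,
      (Submodule.quotientPi fun _ : Fin n => Cs.comap (Algebra.linearMap O K)).length_eq,
      Module.length_pi_of_fintype, Finset.sum_const, Finset.card_univ, Fintype.card_fin, nsmul_eq_mul]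
  let Nn : Submodule O (Fin n → K) :=
    Submodule.pi Set.univ fun _ => LinearMap.range (IsScalarTower.toAlgHom O S K).toLinearMap
  let ιN : (Fin n → S) →ₗ[O] (Fin n → K) := ((IsScalarTower.toAlgHom O S K).toLinearMap).compLeft (Fin n)
  have hNn : Nn = LinearMap.range ιN := by
    ext x
    refine ⟨fun h => ?_, fun ⟨v, hv⟩ => Submodule.mem_pi.2 fun i _ => ⟨v i, congrFun hv i⟩⟩
    choose v hv using fun i => Submodule.mem_pi.1 h i trivial
    exact ⟨v, funext hv⟩
  haveI : Module.Finite O ↥Nn := by rw [hNn]; infer_instance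
  haveI : Module.Finite O ↥M' := Module.Finite.of_injective (Submodule.inclusion hN) (Submodule.inclusion_injective _)
  have htors : ∀ x ∈ M', c • x ∈ Ln := fun x hx => Submodule.mem_pi.2 fun i _ => by
    obtain ⟨s, hs⟩ := Submodule.mem_pi.1 (hN hx) i trivial
    rw [Pi.smul_apply, ← hs, Algebra.smul_def, mul_comm]
    exact hstable s _ hcC
  have hfin : lenQ M' Ln ≠ ⊤ := TFDual.length_ne_top_of_torsion fun q => by
    obtain ⟨x, rfl⟩ := Submodule.mkQ_surjective _ q
    refine ⟨c, hc0, ?_⟩
    rw [← map_smul, Submodule.mkQ_apply, Submodule.Quotient.mk_eq_zero]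
    exact htors x x.2
  have hupper : (n * Module.length O (O ⧸ Cs.comap (Algebra.linearMap O K)) : ℕ∞) ≤ lenQ M' Ln := by
    rw [← hδ, lenQ_add hLnOn hO]; exact le_self_add
  have hmapP₀ : ((P₀.restrictScalars O).comap M'.subtype).map (e : ↥M' →ₗ[O] ↥M'') = Ln.comap M''.subtype := by
    ext y
    rw [Submodule.mem_map]
    constructor
    · rintro ⟨x, hx, rfl⟩
      show (f x) ∈ Ln
      rw [hf, ← hL]
      exact hx
    · intro hy
      refine ⟨e.symm y, ?_, e.apply_symm_apply y⟩
      show Φ ((e.symm y : ↥M') : Fin n → K) ∈ L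
      show G.mulVec _ ∈ L.restrictScalars O
      rw [← hf, hL]
      show ((e (e.symm y) : ↥M'') : Fin n → K) ∈ Ln
      rw [LinearEquiv.apply_symm_apply]
      exact hy
  have hlower : lenQ M' (P₀.restrictScalars O) ≤ n * Module.length O (O ⧸ Cs.comap (Algebra.linearMap O K)) := by
    rw [← hδ, lenQ_add hC'' hO'',
      show lenQ M'' Ln = lenQ M' (P₀.restrictScalars O) from
        (Submodule.Quotient.equiv _ _ e hmapP₀).length_eq.symm]
    exact le_self_add
  obtain ⟨d, hd⟩ := ENat.ne_top_iff_exists.1 (ne_top_of_le_ne_top hfin hupper)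
  obtain ⟨a, ha⟩ := ENat.ne_top_iff_exists.1 (ne_top_of_le_ne_top hfin (hlower.trans hupper))
  have had : a ≤ d := by rw [← hd, ← ha] at hlower; exact_mod_cast hlower
  have hP₀fg : P₀.FG := by
    have hle : P₀ ≤ LinearMap.range ((Algebra.linearMap S K).compLeft (Fin n)) := fun x hx => by
      choose v hv using fun i => Submodule.mem_pi.1 (hN (hP₀M hx)) i trivial
      exact ⟨v, funext hv⟩
    haveI : Module.Finite S ↥P₀ := Module.Finite.of_injective (Submodule.inclusion hle) (Submodule.inclusion_injective _)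
    exact Module.Finite.iff_fg.1 ‹_›
  obtain ⟨P, hLP, hPP₀, hP⟩ := exists_between L P₀ M' hLP₀ hP₀M hP₀fg (d - a)
    (by rw [hL, ← ha]; refine le_trans ?_ hupper; rw [← hd]; exact_mod_cast (show a + (d - a) ≤ d by omega))
    (by rw [hL]; exact hfin)
  have hPd : lenQ M' (P.restrictScalars O) = (d : ℕ∞) := by
    rw [hP, ← ha]; exact_mod_cast (show a + (d - a) = d by omega)
  -- a basis of `P`
  haveI : Module.Finite S ↥P₀ := Module.Finite.iff_fg.2 hP₀fg
  haveI : Module.Finite S ↥P := Module.Finite.of_injective (Submodule.inclusion hPP₀) (Submodule.inclusion_injective _)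
  haveI : Module.IsTorsionFree S (Fin n → K) := Module.IsTorsionFree.trans_faithfulSMul S K _
  haveI : Module.Free S ↥P := Module.free_of_finite_type_torsion_free' (R := S) (M := ↥P)
  obtain ⟨m, b⟩ : Σ m, Module.Basis (Fin m) S ↥P := ⟨_, Module.finBasis S ↥P⟩
  have hli : LinearIndependent K fun i => (b i : Fin n → K) :=
    (LinearIndependent.iff_fractionRing S K).mp (b.linearIndependent.map' P.subtype (Submodule.ker_subtype _))
  have hPspan : ∀ x ∈ P, x ∈ Submodule.span K (Set.range fun i => (b i : Fin n → K)) := fun x hx => by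
    have h2 : x = ∑ i, b.repr ⟨x, hx⟩ i • (b i : Fin n → K) := by
      have h3 := congrArg P.subtype (b.sum_repr ⟨x, hx⟩)
      simp only [map_sum, map_smul] at h3
      exact h3.symm
    rw [h2]
    refine sum_mem fun i _ => ?_
    rw [← algebraMap_smul K]
    exact Submodule.smul_mem _ _ (Submodule.subset_span ⟨i, rfl⟩)
  have hsp : ⊤ ≤ Submodule.span K (Set.range fun i => (b i : Fin n → K)) := by
    rw [← (Pi.basisFun K (Fin n)).span_eq, Submodule.span_le]
    rintro _ ⟨j, rfl⟩
    have h0 : algebraMap O K c ≠ 0 := fun h => hc0 (IsFractionRing.injective O K (h.trans (map_zero _).symm))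
    have hmem : (algebraMap O K c) • (Pi.single j 1 : Fin n → K) ∈ P := hLP fun i => by
      rw [Pi.smul_apply, Pi.single_apply]; split
      · rw [smul_eq_mul, mul_one]; exact hcC
      · rw [smul_zero]; exact zero_mem _
    rw [Pi.basisFun_apply, ← inv_smul_smul₀ h0 (Pi.single j 1 : Fin n → K)]
    exact Submodule.smul_mem _ _ (hPspan _ hmem)
  obtain rfl : m = n := by
    rw [← Module.finrank_fin_fun (R := K) (n := n), Module.finrank_eq_card_basis (Module.Basis.mk hli hsp),
      Fintype.card_fin]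
  let B := Module.Basis.mk hli hsp
  let hK : (Fin m → K) ≃ₗ[K] (Fin m → K) := B.equivFun ≪≫ₗ LinearEquiv.smulOfNeZero K (Fin m → K) t ht
  have hrepr : ∀ (x : Fin m → K) (hx : x ∈ P) i, B.equivFun x i = algebraMap S K (b.repr ⟨x, hx⟩ i) := fun x hx i => by
    have h2 : x = ∑ i, algebraMap S K (b.repr ⟨x, hx⟩ i) • B i := by
      simp only [B, Module.Basis.mk_apply, algebraMap_smul]
      have h3 := congrArg P.subtype (b.sum_repr ⟨x, hx⟩)
      simp only [map_sum, map_smul] at h3
      exact h3.symm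
    conv_lhs => rw [h2]
    exact congrFun (B.equivFun.apply_symm_apply fun i => algebraMap S K (b.repr ⟨x, hx⟩ i) :
      B.equivFun (B.equivFun.symm _) = _) i |>.trans rfl |> fun h => by
        rw [Module.Basis.equivFun_symm_apply] at h; exact h
  have hKP : ∀ x, hK x ∈ Ln ↔ x ∈ P := fun x => by
    refine ⟨fun h => ?_, fun hx => Submodule.mem_pi.2 fun i _ => ?_⟩
    · choose s hs using fun i => (hCs _).1 (Submodule.mem_pi.1 h i trivial)
      have hx : x = ∑ i, algebraMap S K (s i) • B i := by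
        rw [← Module.Basis.equivFun_symm_apply, LinearEquiv.eq_symm_apply]
        exact funext fun i => mul_left_cancel₀ ht (hs i)
      rw [hx]
      refine sum_mem fun i _ => ?_
      rw [algebraMap_smul, show B i = (b i : Fin m → K) from Module.Basis.mk_apply hli hsp i]
      exact P.smul_mem _ (b i).2
    · exact (hCs _).2 ⟨_, congrArg (t * ·) (hrepr x hx i)⟩
  let hO' : (Fin m → K) ≃ₗ[O] (Fin m → K) := hK.restrictScalars O
  refine ⟨M'.map (hO' : (Fin m → K) →ₗ[O] (Fin m → K)), fun x hx => ?_, ?_, ⟨(hO'.submoduleMap M')⟩, ?_⟩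
  · refine ⟨hK.symm x, hP₀M (hPP₀ ?_), hK.apply_symm_apply x⟩
    rw [← hKP, LinearEquiv.apply_symm_apply]; exact hx
  · rintro _ ⟨x, hx, rfl⟩
    have hmem : t • x ∈ P := hLP fun i => by
      obtain ⟨s, hs⟩ := Submodule.mem_pi.1 (hN hx) i trivial
      exact (hCs _).2 ⟨s, by rw [Pi.smul_apply, smul_eq_mul, ← hs]; rfl⟩
    refine Submodule.mem_pi.2 fun i _ => ⟨b.repr ⟨_, hmem⟩ i, ?_⟩
    show algebraMap S K _ = (t • B.equivFun x) i
    rw [← map_smul, hrepr _ hmem i]
  · rw [← hd, ← hPd]
    refine (Submodule.Quotient.equiv _ _ (hO'.submoduleMap M') ?_).length_eq.symm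
    ext y
    rw [Submodule.mem_map]
    constructor
    · rintro ⟨x, hx, rfl⟩
      exact (hKP _).2 hx
    · intro hy
      obtain ⟨x, hx, hxy⟩ := y.2
      refine ⟨⟨x, hx⟩, (hKP x).1 ?_, Subtype.ext hxy⟩
      show hO' x ∈ Ln
      rw [show hO' x = (y : Fin m → K) from hxy]
      exact hy

end Groth.L21.Lattice
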