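import Groth.Agent.L01.TorLES
import Groth.Agent.L28.TorFacts
import Groth.Agent.L21.TFDual.Frac
import Mathlib.RingTheory.Artinian.Ring
import Mathlib.RingTheory.FiniteLength
import Mathlib.CategoryTheory.Abelian.LeftDerived
import Mathlib.LinearAlgebra.TensorProduct.Pi

/-!
`Tor` against a torsion-free overring and maps with torsion cokernel.
-/

set_option autoImplicit false
universe u

open CategoryTheory CategoryTheory.Limits MonoidalCategory
open scoped TensorProduct

namespace Groth.L21.Lattice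

variable {A : Type u} [CommRing A]

/-- The sequence of `Tor` around the connecting map. -/
theorem tor_sequence (S : Type u) [AddCommGroup S] [Module A S] {N₁ N₂ : Type u} [AddCommGroup N₁] [Module A N₁]
    [AddCommGroup N₂] [Module A N₂] (f : N₁ →ₗ[A] N₂) (hf : Function.Injective f) :
    ∃ δ : ((Tor (ModuleCat.{u} A) 1).obj (ModuleCat.of A S)).obj (ModuleCat.of A (N₂ ⧸ LinearMap.range f)) →ₗ[A]
        S ⊗[A] N₁,
      LinearMap.range δ = LinearMap.ker (f.lTensor S) ∧
      Function.Exact (((Tor (ModuleCat.{u} A) 1).obj (ModuleCat.of A S)).map (ModuleCat.ofHom (LinearMap.range f).mkQ)).hom δ ∧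
      Function.Exact (((Tor (ModuleCat.{u} A) 1).obj (ModuleCat.of A S)).map (ModuleCat.ofHom f)).hom
        (((Tor (ModuleCat.{u} A) 1).obj (ModuleCat.of A S)).map (ModuleCat.ofHom (LinearMap.range f).mkQ)).hom := by
  let SC : ShortComplex (ModuleCat.{u} A) := ShortComplex.mk (ModuleCat.ofHom f)
    (ModuleCat.ofHom (LinearMap.range f).mkQ) (ModuleCat.hom_ext (LinearMap.range_mkQ_comp f))
  have hSC : SC.ShortExact :=
    { exact := (ShortComplex.ShortExact.moduleCat_exact_iff_function_exact _).2 (LinearMap.exact_map_mkQ_range f)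
      mono_f := (ModuleCat.mono_iff_injective _).2 hf
      epi_g := (ModuleCat.epi_iff_surjective _).2 (Submodule.mkQ_surjective _) }
  obtain ⟨-, -, δ, w₁, w₂, h₁, h₂⟩ := Groth.L01.TorLES.tor_longExact (ModuleCat.of A S) SC hSC 0
  obtain ⟨⟨w₀, h₀⟩, -, -⟩ := Groth.L01.TorLES.tor_longExact (ModuleCat.of A S) SC hSC 1
  haveI : PreservesFiniteColimits ((tensoringLeft (ModuleCat.{u} A)).obj (ModuleCat.of A S)) := by
    haveI : PreservesColimitsOfSize.{0, 0} (tensorLeft (ModuleCat.of A S)) :=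
      (ihom.adjunction (ModuleCat.of A S)).leftAdjoint_preservesColimits
    exact PreservesColimitsOfSize.preservesFiniteColimits _
  let e : (Tor (ModuleCat.{u} A) 0).obj (ModuleCat.of A S) ≅ (tensoringLeft (ModuleCat.{u} A)).obj (ModuleCat.of A S) :=
    Functor.leftDerivedZeroIsoSelf _
  have h0' := (ShortComplex.ShortExact.moduleCat_exact_iff_function_exact _).1 h₀
  have h1' := (ShortComplex.ShortExact.moduleCat_exact_iff_function_exact _).1 h₁
  have h2' := (ShortComplex.ShortExact.moduleCat_exact_iff_function_exact _).1 h₂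
  let E₁ := (e.app SC.X₁).toLinearEquiv
  let E₂ := (e.app SC.X₂).toLinearEquiv
  have hnat : ∀ y, E₂ ((((Tor (ModuleCat.{u} A) 0).obj (ModuleCat.of A S)).map SC.f).hom y) = f.lTensor S (E₁ y) :=
    fun y => LinearMap.congr_fun (congrArg ModuleCat.Hom.hom (e.hom.naturality SC.f)) y
  refine ⟨E₁.toLinearMap ∘ₗ δ.hom, ?_, fun x => ?_, h0'⟩
  · refine le_antisymm ?_ fun z hz => ?_
    · rintro _ ⟨x, rfl⟩
      rw [LinearMap.mem_ker]
      show f.lTensor S (E₁ (δ.hom x)) = 0
      rw [← hnat, (h2' _).2 ⟨x, rfl⟩, map_zero]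
    · obtain ⟨y, rfl⟩ := E₁.surjective z
      obtain ⟨x, hx⟩ := (h2' y).1 (E₂.injective ((hnat y).trans ((LinearMap.mem_ker.1 hz).trans (map_zero E₂).symm)))
      exact ⟨x, congrArg E₁ hx⟩
  · exact ⟨fun hx => (h1' x).1 (E₁.map_eq_zero_iff.1 hx), fun hx => E₁.map_eq_zero_iff.2 ((h1' x).2 hx)⟩

theorem subsingleton_tor_free (S : Type u) [AddCommGroup S] [Module A S] (n : ℕ) :
    Subsingleton (((Tor (ModuleCat.{u} A) 1).obj (ModuleCat.of A S)).obj (ModuleCat.of A (Fin n → A))) :=
  ModuleCat.subsingleton_of_isZero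
    (Groth.L28.TorFacts.isZero_of_flat_right (ModuleCat.of A S) (ModuleCat.of A (Fin n → A)) 0)

/-- Elements of a finite length module over a one-dimensional domain are killed by a nonzero scalar. -/
theorem exists_smul_eq_zero [IsDomain A] [IsLocalRing A] (hdim : ringKrullDim A = 1) {T : Type u} [AddCommGroup T]
    [Module A T] [Module.Finite A T] (hT : IsFiniteLength A T) : ∃ c : A, c ≠ 0 ∧ ∀ x : T, c • x = 0 := by
  classical
  haveI := (isFiniteLength_iff_isNoetherian_isArtinian.1 hT).2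
  have h1 : ∀ x : T, ∃ c : A, c ≠ 0 ∧ c • x = 0 := fun x => by
    by_contra hall
    push Not at hall
    haveI : IsArtinianRing A := isArtinian_of_injective (LinearMap.toSpanSingleton A T x)
      ((injective_iff_map_eq_zero _).2 fun c hc => by_contra fun hne => hall c hne hc)
    have hF := IsArtinianRing.isField_of_isDomain A
    exact Groth.L21.TFDual.maximalIdeal_ne_bot hdim (IsLocalRing.isField_iff_maximalIdeal_eq.1 hF)
  choose c hc0 hc using h1
  obtain ⟨s, hs⟩ := Module.Finite.fg_top (R := A) (M := T)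
  refine ⟨∏ x ∈ s, c x, Finset.prod_ne_zero_iff.2 fun x _ => hc0 x, fun x => ?_⟩
  have hx : x ∈ Submodule.span A (s : Set T) := hs ▸ Submodule.mem_top
  induction hx using Submodule.span_induction with
  | mem y hy => rw [← Finset.prod_erase_mul s c hy, mul_smul, hc, smul_zero]
  | zero => rw [smul_zero]
  | add a b _ _ ha hb => rw [smul_add, ha, hb, add_zero]
  | smul r a _ ha => rw [smul_comm, ha, smul_zero]

/-- A map inverse to `f` up to a nonzero scalar. -/
theorem exists_quasiInverse [IsDomain A] [IsLocalRing A] (hdim : ringKrullDim A = 1) {N₁ N₂ : Type u}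
    [AddCommGroup N₁] [Module A N₁] [AddCommGroup N₂] [Module A N₂] [Module.Finite A N₂]
    (f : N₁ →ₗ[A] N₂) (hf : Function.Injective f) (hT : IsFiniteLength A (N₂ ⧸ LinearMap.range f)) :
    ∃ (c : A) (g : N₂ →ₗ[A] N₁), c ≠ 0 ∧ g ∘ₗ f = c • LinearMap.id := by
  obtain ⟨c, hc0, hc⟩ := exists_smul_eq_zero hdim hT
  have hmem : ∀ y : N₂, c • y ∈ LinearMap.range f := fun y =>
    (Submodule.Quotient.mk_eq_zero _).1 ((Submodule.Quotient.mk_smul _ c y).trans (hc _))
  refine ⟨c, (LinearEquiv.ofInjective f hf).symm.toLinearMap ∘ₗ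
    (LinearMap.codRestrict (LinearMap.range f) (c • LinearMap.id) hmem), hc0, LinearMap.ext fun x => ?_⟩
  show (LinearEquiv.ofInjective f hf).symm ⟨c • f x, _⟩ = c • x
  exact (LinearEquiv.symm_apply_eq _).2 (Subtype.ext (map_smul f c x).symm)

theorem isTorsionFree_tensor_free [IsDomain A] (S : Type u) [AddCommGroup S] [Module A S] [Module.IsTorsionFree A S]
    (n : ℕ) (c : A) (hc : c ≠ 0) (z : S ⊗[A] (Fin n → A)) (hz : c • z = 0) : z = 0 := by
  classical
  refine (TensorProduct.piScalarRight A A S (Fin n)).map_eq_zero_iff.1 ?_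
  have h := congrArg (TensorProduct.piScalarRight A A S (Fin n)) hz
  rw [map_smul, map_zero] at h
  exact (smul_eq_zero.1 h).resolve_left hc

theorem nonempty_tor_iso_of_injective [IsDomain A] [IsLocalRing A] (hdim : ringKrullDim A = 1) (S : Type u)
    [AddCommGroup S] [Module A S] [Module.IsTorsionFree A S] {M : Type u} [AddCommGroup M] [Module A M]
    [Module.Finite A M] {n : ℕ} (f : (Fin n → A) →ₗ[A] M) (hf : Function.Injective f)
    (hT : IsFiniteLength A (M ⧸ LinearMap.range f)) :
    Nonempty (((Tor (ModuleCat.{u} A) 1).obj (ModuleCat.of A S)).obj (ModuleCat.of A M) ≅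
      ((Tor (ModuleCat.{u} A) 1).obj (ModuleCat.of A S)).obj (ModuleCat.of A (M ⧸ LinearMap.range f))) ∧
    Function.Injective (f.lTensor S) := by
  obtain ⟨c, g, hc, hgf⟩ := exists_quasiInverse hdim f hf hT
  have hinj : Function.Injective (f.lTensor S) := (injective_iff_map_eq_zero _).2 fun z hz =>
    isTorsionFree_tensor_free S n c hc z (by
      have h := congrArg (g.lTensor S) hz
      rw [map_zero, ← LinearMap.lTensor_comp_apply, hgf, LinearMap.lTensor_smul, LinearMap.lTensor_id] at h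
      exact h)
  obtain ⟨δ, hδr, hδ, hf'⟩ := tor_sequence S f hf
  haveI := subsingleton_tor_free (A := A) S n
  refine ⟨⟨(LinearEquiv.ofBijective
    (((Tor (ModuleCat.{u} A) 1).obj (ModuleCat.of A S)).map (ModuleCat.ofHom (LinearMap.range f).mkQ)).hom
      ⟨?_, fun x => ?_⟩).toModuleIso⟩, hinj⟩
  · refine (injective_iff_map_eq_zero _).2 fun x hx => ?_
    obtain ⟨y, rfl⟩ := (hf' x).1 hx
    rw [Subsingleton.elim y 0, map_zero]
  · refine (hδ x).1 ?_
    have : δ x ∈ LinearMap.range δ := ⟨x, rfl⟩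
    rw [hδr, LinearMap.ker_eq_bot.2 hinj] at this
    exact (Submodule.mem_bot A).1 this

theorem nonempty_torsion_equiv [IsDomain A] [IsLocalRing A] (hdim : ringKrullDim A = 1) (S : Type u)
    [AddCommGroup S] [Module A S] [Module.IsTorsionFree A S] {M : Type u} [AddCommGroup M] [Module A M]
    {n : ℕ} (g : M →ₗ[A] (Fin n → A)) (hg : Function.Injective g)
    (hT : IsFiniteLength A ((Fin n → A) ⧸ LinearMap.range g)) :
    Nonempty (↥(Submodule.torsion A (S ⊗[A] M)) ≃ₗ[A]
      ↑(((Tor (ModuleCat.{u} A) 1).obj (ModuleCat.of A S)).obj (ModuleCat.of A ((Fin n → A) ⧸ LinearMap.range g)))) := by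
  obtain ⟨c, q, hc, hq⟩ := exists_quasiInverse hdim g hg hT
  have htor : Submodule.torsion A (S ⊗[A] M) = LinearMap.ker (g.lTensor S) := by
    refine le_antisymm ?_ fun z hz => ?_
    · rintro z ⟨a, ha⟩
      refine isTorsionFree_tensor_free S n a.1 (nonZeroDivisors.ne_zero a.2) _ ?_
      rw [← map_smul]
      exact (congrArg (g.lTensor S) ha).trans (map_zero _)
    · refine ⟨⟨c, mem_nonZeroDivisors_of_ne_zero hc⟩, ?_⟩
      have h := congrArg (q.lTensor S) (LinearMap.mem_ker.1 hz)
      rw [map_zero, ← LinearMap.lTensor_comp_apply, hq, LinearMap.lTensor_smul, LinearMap.lTensor_id] at h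
      exact h
  obtain ⟨δ, hδr, hδ, -⟩ := tor_sequence S g hg
  haveI := subsingleton_tor_free (A := A) S n
  have hinj : Function.Injective δ := (injective_iff_map_eq_zero _).2 fun x hx => by
    obtain ⟨y, rfl⟩ := (hδ x).1 hx
    rw [Subsingleton.elim y 0, map_zero]
  exact ⟨((LinearEquiv.ofInjective δ hinj) ≪≫ₗ LinearEquiv.ofEq _ _ (hδr.trans htor.symm)).symm⟩

end Groth.L21.Lattice
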